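import Mathlib

/-!
Counting pairs of binary forms over a finite field by the value of their resultant
(helper library of helper83 for the `ResHyp` rows).
-/

set_option autoImplicit false

namespace Groth.Agent.H83.ResHyp

open Polynomial

variable {F : Type*} [Field F]

/-- The polynomial with the given coefficient vector. -/
noncomputable def poly {N : ℕ} (v : Fin N → F) : F[X] := ∑ i : Fin N, C (v i) * X ^ (i : ℕ)

lemma poly_eq {N : ℕ} (v : Fin N → F) : poly v = ((degreeLTEquiv F N).symm v : F[X]) := by
  simp [poly, degreeLTEquiv, C_mul_X_pow_eq_monomial]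

lemma degree_poly_lt {N : ℕ} (v : Fin N → F) : (poly v).degree < N := by
  rw [poly_eq]
  exact mem_degreeLT.mp (Subtype.property _)

lemma poly_coeff {N : ℕ} (v : Fin N → F) (i : Fin N) : (poly v).coeff i = v i := by
  have h := (degreeLTEquiv F N).apply_symm_apply v
  rw [poly_eq]
  exact congrFun h i

lemma poly_coeff_of_le {N : ℕ} (v : Fin N → F) (j : ℕ) (hj : N ≤ j) : (poly v).coeff j = 0 := by
  apply coeff_eq_zero_of_degree_lt
  exact lt_of_lt_of_le (degree_poly_lt v) (by exact_mod_cast hj)

lemma poly_injective {N : ℕ} : Function.Injective (poly : (Fin N → F) → F[X]) := by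
  intro v w h
  ext i
  rw [← poly_coeff v i, ← poly_coeff w i, h]

lemma poly_coeffs {N : ℕ} {P : F[X]} (hP : P.degree < N) :
    poly (fun i : Fin N => P.coeff i) = P := by
  have h := (degreeLTEquiv F N).symm_apply_apply ⟨P, mem_degreeLT.mpr hP⟩
  rw [poly_eq]
  exact congrArg Subtype.val h

lemma natDegree_poly_le {N : ℕ} (v : Fin (N + 1) → F) : (poly v).natDegree ≤ N := by
  have h := degree_poly_lt v
  by_cases h0 : poly v = 0
  · simp [h0]
  · rw [degree_eq_natDegree h0] at h
    have : (poly v).natDegree < N + 1 := by exact_mod_cast h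
    omega

lemma poly_zero {N : ℕ} : poly (0 : Fin N → F) = 0 := by
  simp [poly]

lemma poly_eq_zero_iff {N : ℕ} (v : Fin N → F) : poly v = 0 ↔ v = 0 := by
  constructor
  · intro h
    apply poly_injective
    rw [h, poly_zero]
  · rintro rfl
    exact poly_zero

end Groth.Agent.H83.ResHyp
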