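import Groth.Agent.H83.ResHyp.Basic

/-!
Counting pairs (binary quadratic form, binary form of degree `n`) over a finite field with
nonvanishing resultant (helper library of helper83 for the `ResHyp` rows).
-/

set_option autoImplicit false
namespace Groth.Agent.H83.ResHyp
open Polynomial
variable {F : Type*} [Field F]

lemma poly_snoc {N : ℕ} (h : Fin N → F) (x : F) :
    poly (Fin.snoc (α := fun _ => F) h x : Fin (N + 1) → F) = poly h + C x * X ^ N := by
  unfold poly
  rw [Fin.sum_univ_castSucc]
  simp

lemma poly_snoc_zero {N : ℕ} (h : Fin N → F) :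
    poly (Fin.snoc (α := fun _ => F) h (0 : F) : Fin (N + 1) → F) = poly h := by
  rw [poly_snoc]; simp

/-- Division with remainder: degree bound. -/
lemma degree_mul_add_lt {m : F[X]} {d k : ℕ} (hm : m ≠ 0) (hd : m.natDegree = d)
    (a : Fin k → F) (h : Fin d → F) : (m * poly a + poly h).degree < (k + d : ℕ) := by
  have h1 : (m * poly a).degree < (k + d : ℕ) := by
    by_cases ha : poly a = 0
    · rw [ha, mul_zero, degree_zero]; exact WithBot.bot_lt_coe _
    · have hk : (poly a).natDegree < k := by
        have := degree_poly_lt a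
        rw [degree_eq_natDegree ha] at this
        exact_mod_cast this
      rw [degree_eq_natDegree (mul_ne_zero hm ha), natDegree_mul hm ha, hd]
      exact_mod_cast (by omega : d + (poly a).natDegree < k + d)
  have h2 : (poly h).degree < (k + d : ℕ) :=
    lt_of_lt_of_le (degree_poly_lt h) (by exact_mod_cast Nat.le_add_left d k)
  exact lt_of_le_of_lt (degree_add_le _ _) (max_lt h1 h2)

lemma mul_add_unique {m : F[X]} {d k : ℕ} (hm : m ≠ 0) (hd : m.natDegree = d)
    (a a' : Fin k → F) (h h' : Fin d → F)
    (he : m * poly a + poly h = m * poly a' + poly h') : a = a' ∧ h = h' := by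
  have h1 : m * (poly a - poly a') = poly h' - poly h := by
    rw [mul_sub]; linear_combination he
  have ha : poly a = poly a' := by
    by_contra hne
    have hne' : poly a - poly a' ≠ 0 := sub_ne_zero.mpr hne
    have hdeg : (m * (poly a - poly a')).degree < d := by
      rw [h1]
      exact lt_of_le_of_lt (degree_sub_le _ _) (max_lt (degree_poly_lt h') (degree_poly_lt h))
    rw [degree_eq_natDegree (mul_ne_zero hm hne'), natDegree_mul hm hne', hd] at hdeg
    have : d + (poly a - poly a').natDegree < d := by exact_mod_cast hdeg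
    omega
  refine ⟨poly_injective ha, poly_injective ?_⟩
  rw [ha] at he
  exact add_left_cancel he

variable [Fintype F]

open Classical in
/-- Number of coefficient vectors of length `N` whose polynomial is coprime to `m`. -/
noncomputable def W (m : F[X]) (N : ℕ) : ℕ :=
  (Finset.univ.filter (fun g : Fin N → F => IsCoprime m (poly g))).card

open Classical in
/-- Same, with nonvanishing top coefficient. -/
noncomputable def Wtop (m : F[X]) (N : ℕ) : ℕ :=
  (Finset.univ.filter
    (fun g : Fin (N + 1) → F => g (Fin.last N) ≠ 0 ∧ IsCoprime m (poly g))).card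

/-- The division map. -/
noncomputable def divMap (m : F[X]) (k d : ℕ) (p : (Fin k → F) × (Fin d → F)) : Fin (k + d) → F :=
  fun i => (m * poly p.1 + poly p.2).coeff i

lemma poly_divMap {m : F[X]} {d k : ℕ} (hm : m ≠ 0) (hd : m.natDegree = d)
    (p : (Fin k → F) × (Fin d → F)) : poly (divMap m k d p) = m * poly p.1 + poly p.2 :=
  poly_coeffs (degree_mul_add_lt hm hd p.1 p.2)

lemma divMap_bijective {m : F[X]} {d k : ℕ} (hm : m ≠ 0) (hd : m.natDegree = d) :
    Function.Bijective (divMap m k d) := by
  rw [Fintype.bijective_iff_injective_and_card]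
  constructor
  · intro p p' hpp
    have := congrArg poly hpp
    rw [poly_divMap hm hd, poly_divMap hm hd] at this
    obtain ⟨h1, h2⟩ := mul_add_unique hm hd _ _ _ _ this
    exact Prod.ext h1 h2
  · simp [Fintype.card_prod, pow_add]

lemma W_add {m : F[X]} {d : ℕ} (k : ℕ) (hm : m ≠ 0) (hd : m.natDegree = d) :
    W m (k + d) = Fintype.card F ^ k * W m d := by
  classical
  unfold W
  rw [← Finset.card_equiv (s := Finset.univ.filter
    (fun p : (Fin k → F) × (Fin d → F) => IsCoprime m (poly p.2)))
    (Equiv.ofBijective _ (divMap_bijective (k := k) hm hd))]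
  · rw [← Finset.univ_product_univ,
      Finset.filter_product_right (fun h : Fin d → F => IsCoprime m (poly h)), Finset.card_product]
    simp
  · intro p
    simp only [Finset.mem_filter, Finset.mem_univ, true_and, Equiv.ofBijective_apply]
    rw [poly_divMap hm hd, add_comm, IsCoprime.add_mul_left_right_iff]

lemma Wtop_add_W (m : F[X]) (N : ℕ) : Wtop m N + W m N = W m (N + 1) := by
  classical
  unfold Wtop W
  have h1 : (Finset.univ.filter (fun g : Fin N → F => IsCoprime m (poly g))).card =
      (Finset.univ.filter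
        (fun g : Fin (N + 1) → F => ¬ g (Fin.last N) ≠ 0 ∧ IsCoprime m (poly g))).card := by
    apply Finset.card_nbij' (fun h => (Fin.snoc (α := fun _ => F) h (0 : F) : Fin (N + 1) → F))
      (fun g => Fin.init g)
    · intro h hh
      simp only [Finset.coe_filter, Finset.mem_univ, true_and, Set.mem_ofPred_eq] at hh ⊢
      rw [poly_snoc_zero]
      simpa using hh
    · intro g hg
      simp only [Finset.coe_filter, Finset.mem_univ, true_and, Set.mem_ofPred_eq, not_not] at hg ⊢
      have : g = Fin.snoc (α := fun _ => F) (Fin.init g) (0 : F) := by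
        rw [← hg.1]; exact (Fin.snoc_init_self g).symm
      rw [this, poly_snoc_zero] at hg
      exact hg.2
    · intro h _
      simp
    · intro g hg
      simp only [Finset.coe_filter, Finset.mem_univ, true_and, Set.mem_ofPred_eq, not_not] at hg
      show Fin.snoc (α := fun _ => F) (Fin.init g) (0 : F) = g
      rw [← hg.1]; exact Fin.snoc_init_self g
  rw [h1]
  have h2 := Finset.card_filter_add_card_filter_not (s := Finset.univ.filter
      (fun g : Fin (N + 1) → F => IsCoprime m (poly g))) (fun g => g (Fin.last N) ≠ 0)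
  rw [Finset.filter_filter, Finset.filter_filter] at h2
  rw [← h2]
  congr 2 <;> · ext g; simp [and_comm]


omit [Fintype F] in
lemma isCoprime_of_isUnit {m : F[X]} (hm : IsUnit m) (y : F[X]) : IsCoprime m y := by
  obtain ⟨u, rfl⟩ := hm
  exact ⟨↑u⁻¹, 0, by simp⟩

lemma W_of_isUnit {m : F[X]} (hm : IsUnit m) (N : ℕ) : W m N = Fintype.card F ^ N := by
  classical
  unfold W
  rw [Finset.filter_true_of_mem (fun g _ => isCoprime_of_isUnit hm _)]
  simp

lemma not_isCoprime_zero_of_natDegree {m : F[X]} (hd : m.natDegree ≠ 0) : ¬ IsCoprime m 0 := by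
  rw [isCoprime_zero_right]
  intro hu
  exact hd (natDegree_eq_zero_of_isUnit hu)

lemma poly_fin_one (h : Fin 1 → F) : poly h = C (h 0) := by
  simp [poly]

lemma W_one_of_natDegree_one {m : F[X]} (hd : m.natDegree = 1) :
    W m 1 + 1 = Fintype.card F := by
  classical
  unfold W
  have : (Finset.univ.filter (fun g : Fin 1 → F => IsCoprime m (poly g))) =
      Finset.univ.erase (0 : Fin 1 → F) := by
    ext g
    simp only [Finset.mem_filter, Finset.mem_univ, true_and, Finset.mem_erase, ne_eq, and_true]
    rw [poly_fin_one]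
    constructor
    · intro hc hg
      rw [hg] at hc
      simp only [Pi.zero_apply, map_zero] at hc
      exact not_isCoprime_zero_of_natDegree (by omega) hc
    · intro hg
      have : g 0 ≠ 0 := by
        intro h0
        apply hg
        ext i
        fin_cases i
        simpa using h0
      exact (isCoprime_of_isUnit (isUnit_C.mpr (isUnit_iff_ne_zero.mpr this)) m).symm
  rw [this, Finset.card_erase_of_mem (Finset.mem_univ _), Finset.card_univ]
  have : 0 < Fintype.card (Fin 1 → F) := Fintype.card_pos
  simp at this ⊢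
  omega

/-- The cardinality of the field, as an integer. -/
noncomputable def qz (F : Type*) [Fintype F] : ℤ := (Fintype.card F : ℤ)

lemma Wtop_of_natDegree_one {m : F[X]} (hd : m.natDegree = 1) (j : ℕ) :
    (Wtop m (j + 1) : ℤ) = qz F ^ j * (qz F - 1) ^ 2 := by
  have hm : m ≠ 0 := by
    intro h0; rw [h0] at hd; simp at hd
  have h1 := Wtop_add_W m (j + 1)
  have h2 := W_add j hm hd
  have h3 := W_add (j + 1) hm hd
  have h4 := W_one_of_natDegree_one hd
  have h5 : (W m 1 : ℤ) = qz F - 1 := by
    unfold qz; rw [← h4]; push_cast; ring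
  have h1' : (Wtop m (j + 1) : ℤ) = W m (j + 1 + 1) - W m (j + 1) := by
    rw [← h1]; push_cast; ring
  rw [h1', h2, h3]
  push_cast
  rw [h5]
  unfold qz
  ring

lemma Wtop_of_isUnit {m : F[X]} (hm : IsUnit m) (N : ℕ) :
    (Wtop m N : ℤ) = qz F ^ (N + 1) - qz F ^ N := by
  have h1 := Wtop_add_W m N
  rw [W_of_isUnit hm, W_of_isUnit hm] at h1
  unfold qz
  have h2 : ((Wtop m N + Fintype.card F ^ N : ℕ) : ℤ) = ((Fintype.card F ^ (N + 1) : ℕ) : ℤ) := by
    rw [h1]
  push_cast at h2
  linarith

lemma Wtop_zero (N : ℕ) : Wtop (0 : F[X]) (N + 1) = 0 := by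
  classical
  unfold Wtop
  rw [Finset.card_eq_zero, Finset.filter_eq_empty_iff]
  rintro g - ⟨hg, hc⟩
  rw [isCoprime_zero_left] at hc
  have h1 : (poly g).natDegree = N + 1 :=
    natDegree_eq_of_le_of_coeff_ne_zero (natDegree_poly_le g)
      (by have := poly_coeff g (Fin.last (N + 1))
          rw [Fin.val_last] at this
          rw [this]
          exact hg)
  have := natDegree_eq_zero_of_isUnit hc
  omega


open Classical in
lemma sum_ite_ne_zero (A B : ℤ) :
    ∑ x : F, (if x ≠ 0 then A else B) = (qz F - 1) * A + B := by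
  rw [← Finset.add_sum_erase Finset.univ _ (Finset.mem_univ (0 : F))]
  have : ∑ x ∈ Finset.univ.erase (0 : F), (if x ≠ 0 then A else B) =
      ∑ _x ∈ Finset.univ.erase (0 : F), A := by
    apply Finset.sum_congr rfl
    intro x hx
    rw [if_pos (Finset.ne_of_mem_erase hx)]
  rw [this, Finset.sum_const, Finset.card_erase_of_mem (Finset.mem_univ _), Finset.card_univ]
  have hpos : 1 ≤ Fintype.card F := Fintype.card_pos
  unfold qz
  simp only [ne_eq, not_true_eq_false, if_false, nsmul_eq_mul]
  rw [Nat.cast_sub hpos]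
  push_cast
  ring

omit [Fintype F] in
lemma poly_fin_two (a b : F) : poly ![a, b] = C b * X + C a := by
  simp [poly, Fin.sum_univ_two, add_comm]

open Classical in
lemma Wtop_fin_two (a b : F) (j : ℕ) :
    (Wtop (poly ![a, b]) (j + 1) : ℤ) =
      if b ≠ 0 then qz F ^ j * (qz F - 1) ^ 2
      else if a ≠ 0 then qz F ^ (j + 2) - qz F ^ (j + 1) else 0 := by
  rw [poly_fin_two]
  split_ifs with hb ha
  · exact Wtop_of_natDegree_one (natDegree_linear hb) j
  · simp only [ne_eq, not_not] at hb
    rw [hb]
    simp only [map_zero, zero_mul, zero_add]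
    exact Wtop_of_isUnit (isUnit_C.mpr (isUnit_iff_ne_zero.mpr ha)) (j + 1)
  · simp only [ne_eq, not_not] at hb ha
    rw [hb, ha]
    simp only [map_zero, zero_mul, zero_add]
    rw [Wtop_zero]
    simp

lemma sum_fin_two {M : Type*} [AddCommMonoid M] (φ : (Fin 2 → F) → M) :
    ∑ h, φ h = ∑ a : F, ∑ b : F, φ ![a, b] := by
  rw [← Fintype.sum_prod_type']
  exact (Fintype.sum_equiv (piFinTwoEquiv (fun _ : Fin 2 => F)).symm _ _ (fun _ => rfl)).symm

lemma sumTop (j : ℕ) :
    ∑ h : Fin 2 → F, (Wtop (poly h) (j + 1) : ℤ) = (qz F - 1) ^ 2 * qz F ^ (j + 2) := by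
  classical
  rw [sum_fin_two]
  simp_rw [Wtop_fin_two, sum_ite_ne_zero]
  rw [Finset.sum_add_distrib, sum_ite_ne_zero]
  simp only [Finset.sum_const, Finset.card_univ, nsmul_eq_mul]
  unfold qz
  ring

omit [Fintype F] in
lemma resultant_ne_zero_iff {n : ℕ} (f : Fin 3 → F) (g : Fin (n + 1) → F) :
    resultant (poly f) (poly g) 2 n ≠ 0 ↔
      (f 2 ≠ 0 ∨ g (Fin.last n) ≠ 0) ∧ IsCoprime (poly f) (poly g) := by
  set P := poly f with hP
  set Q := poly g with hQ
  have hP2 : P.natDegree ≤ 2 := natDegree_poly_le f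
  have hQn : Q.natDegree ≤ n := natDegree_poly_le g
  have hc2 : P.coeff 2 = f 2 := poly_coeff f 2
  have hcn : Q.coeff n = g (Fin.last n) := poly_coeff g (Fin.last n)
  by_cases h2 : f 2 = 0
  · -- degree of P at most one
    have hP1 : P.natDegree ≤ 1 := by
      by_contra hlt
      have hd : P.natDegree = 2 := by omega
      have : P.coeff 2 ≠ 0 := by
        rw [← hd]
        intro h0
        have := leadingCoeff_eq_zero.mp h0
        rw [this] at hd
        simp at hd
      exact this (hc2.trans h2)
    obtain ⟨k, hk⟩ : ∃ k, 2 = P.natDegree + (k + 1) := ⟨1 - P.natDegree, by omega⟩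
    have hres : resultant P Q 2 n =
        (-1) ^ (n * (k + 1)) * Q.coeff n ^ (k + 1) * resultant P Q P.natDegree n := by
      conv_lhs => rw [hk]
      exact resultant_add_left_deg P Q P.natDegree n (k + 1) le_rfl
    by_cases hgn : g (Fin.last n) = 0
    · rw [hres, hcn, hgn]
      simp [h2]
    · have hQd : Q.natDegree = n := natDegree_eq_of_le_of_coeff_ne_zero hQn (by rw [hcn]; exact hgn)
      have hQ0 : Q ≠ 0 := by
        intro h0
        rw [h0] at hcn
        exact hgn (by simpa using hcn.symm)
      rw [hres]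
      have hne : (-1 : F) ^ (n * (k + 1)) * Q.coeff n ^ (k + 1) ≠ 0 := by
        apply mul_ne_zero
        · exact pow_ne_zero _ (by simp)
        · exact pow_ne_zero _ (by rw [hcn]; exact hgn)
      rw [mul_ne_zero_iff_left hne]
      have hres2 : resultant P Q P.natDegree n = resultant P Q := by rw [hQd]
      rw [hres2, Ne, resultant_eq_zero_iff]
      simp [h2, hgn, hQ0]
  · have hPd : P.natDegree = 2 := natDegree_eq_of_le_of_coeff_ne_zero hP2 (by rw [hc2]; exact h2)
    have hP0 : P ≠ 0 := by
      intro h0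
      rw [h0] at hc2
      exact h2 (by simpa using hc2.symm)
    obtain ⟨k, hk⟩ : ∃ k, n = Q.natDegree + k := ⟨n - Q.natDegree, by omega⟩
    have hres : resultant P Q 2 n = P.coeff 2 ^ k * resultant P Q 2 Q.natDegree := by
      conv_lhs => rw [hk]
      exact resultant_add_right_deg P Q 2 Q.natDegree k le_rfl
    rw [hres]
    have hne : P.coeff 2 ^ k ≠ 0 := pow_ne_zero _ (by rw [hc2]; exact h2)
    rw [mul_ne_zero_iff_left hne]
    have hres2 : resultant P Q 2 Q.natDegree = resultant P Q := by rw [hPd]
    rw [hres2, Ne, resultant_eq_zero_iff]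
    simp [h2, hP0]

omit [Fintype F] in
lemma natDegree_poly_of_last_ne_zero {N : ℕ} (f : Fin (N + 1) → F) (h : f (Fin.last N) ≠ 0) :
    (poly f).natDegree = N :=
  natDegree_eq_of_le_of_coeff_ne_zero (natDegree_poly_le f)
    (by have := poly_coeff f (Fin.last N)
        rw [Fin.val_last] at this
        rw [this]
        exact h)

lemma sum_snoc {N : ℕ} {M : Type*} [AddCommMonoid M] (φ : (Fin (N + 1) → F) → M) :
    ∑ f, φ f = ∑ x : F, ∑ h : Fin N → F, φ (Fin.snoc (α := fun _ => F) h x) := by
  rw [← Fintype.sum_prod_type']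
  exact (Fintype.sum_equiv (Fin.snocEquiv (fun _ : Fin (N + 1) => F)) _ _ (fun _ => rfl)).symm

open Classical in
lemma sum_last_zero {N : ℕ} {M : Type*} [AddCommMonoid M] (φ : (Fin (N + 1) → F) → M) :
    ∑ f : Fin (N + 1) → F, (if f (Fin.last N) = 0 then φ f else 0) =
      ∑ h : Fin N → F, φ (Fin.snoc (α := fun _ => F) h (0 : F)) := by
  rw [sum_snoc]
  simp only [Fin.snoc_last]
  rw [Finset.sum_eq_single (0 : F)]
  · simp
  · intro b _ hb
    simp [hb]
  · simp


open Classical in
lemma sum_swap :
    ∑ f : Fin 3 → F, (if f 2 ≠ 0 then (W (poly f) 2 : ℤ) else 0) =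
      ∑ h : Fin 2 → F, (Wtop (poly h) 2 : ℤ) := by
  unfold W Wtop
  simp_rw [Finset.card_filter]
  push_cast
  have h1 : ∀ f : Fin 3 → F,
      (if f 2 ≠ 0 then ∑ h : Fin 2 → F, (if IsCoprime (poly f) (poly h) then (1 : ℤ) else 0) else 0) =
        ∑ h : Fin 2 → F, (if f (Fin.last 2) ≠ 0 ∧ IsCoprime (poly h) (poly f) then (1 : ℤ) else 0) := by
    intro f
    have e : (2 : Fin 3) = Fin.last 2 := rfl
    rw [← e]
    by_cases hf : f 2 ≠ 0
    · rw [if_pos hf]
      apply Finset.sum_congr rfl
      intro h _
      have : (f 2 ≠ 0 ∧ IsCoprime (poly h) (poly f)) ↔ IsCoprime (poly f) (poly h) := by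
        rw [isCoprime_comm]; exact and_iff_right hf
      simp only [this]
    · rw [if_neg hf]
      symm
      apply Finset.sum_eq_zero
      intro h _
      rw [if_neg]
      exact fun hh => hf hh.1
  simp_rw [h1]
  exact Finset.sum_comm

open Classical in
theorem card_resultant_ne_zero (k : ℕ) :
    ((Finset.univ.filter (fun p : (Fin 3 → F) × (Fin (k + 1 + 1) → F) =>
      resultant (poly p.1) (poly p.2) 2 (k + 1) ≠ 0)).card : ℤ) =
      (qz F - 1) ^ 2 * (qz F + 1) * qz F ^ (k + 2) := by
  rw [Finset.card_filter]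
  push_cast
  rw [Fintype.sum_prod_type]
  have key : ∀ f : Fin 3 → F,
      ∑ g : Fin (k + 1 + 1) → F,
        (if resultant (poly f) (poly g) 2 (k + 1) ≠ 0 then (1 : ℤ) else 0) =
      qz F ^ k * (if f 2 ≠ 0 then (W (poly f) 2 : ℤ) else 0) +
        (if f (Fin.last 2) = 0 then (Wtop (poly f) (k + 1) : ℤ) else 0) := by
    intro f
    have e : (2 : Fin 3) = Fin.last 2 := rfl
    simp_rw [resultant_ne_zero_iff]
    by_cases hf : f 2 = 0
    · have hf' : f (Fin.last 2) = 0 := hf
      rw [if_neg (by simpa using hf), if_pos hf', mul_zero, zero_add]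
      unfold Wtop
      rw [Finset.card_filter]
      push_cast
      apply Finset.sum_congr rfl
      intro g _
      simp only [hf, ne_eq, not_true_eq_false, false_or]
    · have hf' : ¬ f (Fin.last 2) = 0 := hf
      rw [if_pos hf, if_neg hf', add_zero]
      have hd : (poly f).natDegree = 2 := natDegree_poly_of_last_ne_zero f hf'
      have hm : poly f ≠ 0 := by
        intro h0; rw [h0] at hd; simp at hd
      have hW : W (poly f) (k + 1 + 1) = Fintype.card F ^ k * W (poly f) 2 := W_add k hm hd
      have : (qz F ^ k * (W (poly f) 2 : ℤ)) = (W (poly f) (k + 1 + 1) : ℤ) := by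
        rw [hW]; unfold qz; push_cast; ring
      rw [this]
      unfold W
      rw [Finset.card_filter]
      push_cast
      apply Finset.sum_congr rfl
      intro g _
      simp only [ne_eq, hf, not_false_eq_true, true_or, true_and]
  simp_rw [key]
  rw [Finset.sum_add_distrib, ← Finset.mul_sum, sum_swap, sum_last_zero]
  simp_rw [poly_snoc_zero]
  rw [sumTop, sumTop]
  ring

end Groth.Agent.H83.ResHyp
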