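import Groth.Agent.H83.ResHyp.Count

/-!
Counting pairs with resultant equal to one, for odd `n`, by the scaling action
(helper library of helper83 for the `ResHyp` rows).
-/

set_option autoImplicit false

namespace Groth.Agent.H83.ResHyp

open Polynomial

variable {F : Type*} [Field F]

lemma poly_smul {N : ℕ} (c : F) (v : Fin N → F) : poly (c • v) = C c * poly v := by
  simp [poly, Finset.mul_sum, mul_assoc]

lemma resultant_smul_smul {N : ℕ} (r s : F) (f : Fin 3 → F) (g : Fin N → F) (n : ℕ) :
    resultant (poly (r • f)) (poly (s • g)) 2 n =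
      r ^ n * s ^ 2 * resultant (poly f) (poly g) 2 n := by
  rw [poly_smul, poly_smul, resultant_C_mul_left, resultant_C_mul_right]
  ring

variable [Fintype F]

open Classical in
/-- For even `k` (so that `n = k + 1` is odd), every nonzero value of the resultant is taken
equally often. -/
lemma card_resultant_eq (k : ℕ) (hk : Even k) (r : F) (hr : r ≠ 0) :
    (Finset.univ.filter (fun p : (Fin 3 → F) × (Fin (k + 1 + 1) → F) =>
      resultant (poly p.1) (poly p.2) 2 (k + 1) = r)).card =
    (Finset.univ.filter (fun p : (Fin 3 → F) × (Fin (k + 1 + 1) → F) =>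
      resultant (poly p.1) (poly p.2) 2 (k + 1) = 1)).card := by
  obtain ⟨j, hj⟩ := hk
  have hs : r ^ (k + 1) * ((r⁻¹) ^ j) ^ 2 = r := by
    rw [hj, pow_succ, ← pow_mul, inv_pow, show j * 2 = j + j by ring, mul_right_comm,
      mul_inv_cancel₀ (pow_ne_zero _ hr), one_mul]
  have hs0 : (r⁻¹) ^ j ≠ 0 := pow_ne_zero _ (inv_ne_zero hr)
  symm
  apply Finset.card_nbij' (fun p => (r • p.1, ((r⁻¹) ^ j) • p.2))
    (fun p => (r⁻¹ • p.1, ((r⁻¹) ^ j)⁻¹ • p.2))
  · intro p hp
    simp only [Finset.coe_filter, Finset.mem_univ, true_and, Set.mem_ofPred_eq] at hp ⊢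
    rw [resultant_smul_smul, hp, mul_one, hs]
  · intro p hp
    simp only [Finset.coe_filter, Finset.mem_univ, true_and, Set.mem_ofPred_eq] at hp ⊢
    rw [resultant_smul_smul, hp]
    have : (r⁻¹) ^ (k + 1) * (((r⁻¹) ^ j)⁻¹) ^ 2 * r =
        (r ^ (k + 1) * ((r⁻¹) ^ j) ^ 2)⁻¹ * r := by
      rw [mul_inv, inv_pow, inv_pow ((r⁻¹) ^ j)]
    rw [this, hs, inv_mul_cancel₀ hr]
  · intro p _
    ext : 1
    · simp [smul_smul, inv_mul_cancel₀ hr]
    · simp [smul_smul, mul_inv_cancel₀ (pow_ne_zero j hr)]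
  · intro p _
    ext : 1
    · simp [smul_smul, mul_inv_cancel₀ hr]
    · simp [smul_smul, inv_mul_cancel₀ (pow_ne_zero j hr)]

open Classical in
theorem card_resultant_eq_one (k : ℕ) (hk : Even k) :
    ((Finset.univ.filter (fun p : (Fin 3 → F) × (Fin (k + 1 + 1) → F) =>
      resultant (poly p.1) (poly p.2) 2 (k + 1) = 1)).card : ℤ) =
      (qz F - 1) * (qz F + 1) * qz F ^ (k + 2) := by
  have h := card_resultant_ne_zero (F := F) k
  have hfib := Finset.card_eq_sum_card_fiberwise
    (s := Finset.univ.filter (fun p : (Fin 3 → F) × (Fin (k + 1 + 1) → F) =>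
      resultant (poly p.1) (poly p.2) 2 (k + 1) ≠ 0))
    (t := Finset.univ.erase (0 : F))
    (f := fun p => resultant (poly p.1) (poly p.2) 2 (k + 1))
    (by
      intro p hp
      simp only [Finset.coe_filter, Finset.mem_univ, true_and, Set.mem_ofPred_eq] at hp
      simpa using hp)
  have hterm : ∀ b ∈ Finset.univ.erase (0 : F),
      ((Finset.univ.filter (fun p : (Fin 3 → F) × (Fin (k + 1 + 1) → F) =>
        resultant (poly p.1) (poly p.2) 2 (k + 1) ≠ 0)).filter
        (fun p => resultant (poly p.1) (poly p.2) 2 (k + 1) = b)).card =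
      (Finset.univ.filter (fun p : (Fin 3 → F) × (Fin (k + 1 + 1) → F) =>
        resultant (poly p.1) (poly p.2) 2 (k + 1) = 1)).card := by
    intro b hb
    have hb0 : b ≠ 0 := Finset.ne_of_mem_erase hb
    rw [← card_resultant_eq k hk b hb0, Finset.filter_filter]
    congr 1
    ext p
    simp only [Finset.mem_filter, Finset.mem_univ, true_and]
    constructor
    · exact fun hp => hp.2
    · intro hp
      exact ⟨by rw [hp]; exact hb0, hp⟩
  rw [Finset.sum_congr rfl hterm, Finset.sum_const,
    Finset.card_erase_of_mem (Finset.mem_univ _), Finset.card_univ, smul_eq_mul] at hfib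
  rw [hfib] at h
  have hpos : 1 ≤ Fintype.card F := Fintype.card_pos
  have hq2 : 2 ≤ Fintype.card F := Fintype.one_lt_card
  push_cast [Nat.cast_sub hpos] at h
  have hne : (qz F - 1) ≠ 0 := by
    unfold qz
    have : (2 : ℤ) ≤ (Fintype.card F : ℤ) := by exact_mod_cast hq2
    omega
  apply mul_left_cancel₀ hne
  unfold qz at h ⊢
  rw [h]
  ring

end Groth.Agent.H83.ResHyp
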